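import Cfsg.Agent.OD.Pre
import Cfsg.Agent.H6.Net
set_option autoImplicit false
set_option maxRecDepth 100000
set_option Elab.async false
set_option linter.all false
namespace CfH6.U43A
open CfH6 MulAction
noncomputable def k0 : ℕ := (nat_lit 0xa7308c1272380408a7308c1252380408)
noncomputable def k1 : ℕ := (nat_lit 0xe7f5cf28e7f5cf28c7240c00c7240c00)
noncomputable def k2 : ℕ := (nat_lit 0xa7caa70a64e064e0d574c05404080408)
noncomputable def k3 : ℕ := (nat_lit 0x45448888cccc3e3e6868638058580c04)
noncomputable def k4 : ℕ := (nat_lit 0xcc200022cc44b000e0808e4600d00000)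
noncomputable def k5 : ℕ := (nat_lit 0xa84044a0acc088002644ac8e00aa44a0)
noncomputable def k6 : ℕ := (nat_lit 0x40040015100400154100400404110011)
noncomputable def k7 : ℕ := (nat_lit 0x10980000000000001098000000000000)
noncomputable def k8 : ℕ := (nat_lit 0x309a0030309a00300482280c0482280c)
noncomputable def k9 : ℕ := (nat_lit 0x2001810c8004894e2944228602860)
noncomputable def k10 : ℕ := (nat_lit 0xaa78ea002288440040ee2088008844)
noncomputable def k11 : ℕ := (nat_lit 0x8048200c4004ac0c80ac00cac0c4c0)
noncomputable def k12 : ℕ := (nat_lit 0x10105510000550405001404454540054)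
noncomputable def k13 : ℕ := (nat_lit 0xd473e38210000000d473e38210000000)
noncomputable def k14 : ℕ := (nat_lit 0x646b3800646b3800fffcc9a0fffcc9a0)
noncomputable def k15 : ℕ := (nat_lit 0x301030105aac5aacd77495a418201020)
noncomputable def k16 : ℕ := (nat_lit 0x181872a8babae0e03e7e44529090b8b8)
noncomputable def k17 : ℕ := (nat_lit 0x44c44c44aae298a248b0fc2254d020)
noncomputable def k18 : ℕ := (nat_lit 0xc004a8c20cc400a84002c80680a00000)
noncomputable def k19 : ℕ := (nat_lit 0x4101454505001400154411101400040)
noncomputable def k20 : ℕ := (nat_lit 0xd05ce8811c508740d05ce8811c508740)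
noncomputable def k21 : ℕ := (nat_lit 0x3d1c40003d1c4000cde00000cde00000)
noncomputable def k22 : ℕ := (nat_lit 0x968016891329132e408e40801040104)
noncomputable def k23 : ℕ := (nat_lit 0x3030aaaa55546060202012a0b4b4ff00)
noncomputable def k24 : ℕ := (nat_lit 0x504022eecc2260666600ec6480cc70f8)
noncomputable def k25 : ℕ := (nat_lit 0xc400ca0c40c8cac4a0a80c8404c0a66a)
noncomputable def k26 : ℕ := (nat_lit 0x100115045054504540400000004414)
noncomputable def k27 : ℕ := (nat_lit 0xa9803681061a2010a9803681061a2010)
noncomputable def k28 : ℕ := (nat_lit 0xef383000ef383000c0811a0cc0811a0c)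
noncomputable def k29 : ℕ := (nat_lit 0xb6989010f4425402d0c890c820b020a0)
noncomputable def k30 : ℕ := (nat_lit 0xe0e0ccccc000c16070703838eee0c0c0)
noncomputable def k31 : ℕ := (nat_lit 0x1a88e054940082aa229000a0ee00cca4)
noncomputable def k32 : ℕ := (nat_lit 0x28c08880c4008802ca00accc0ca0c028)
noncomputable def k33 : ℕ := (nat_lit 0x11000004144141010400150040440144)
noncomputable def k34 : ℕ := (nat_lit 0xf024d091c0000000f024d091c0000000)
noncomputable def k35 : ℕ := (nat_lit 0xe480c220e4808220d4b70000d4b70000)
noncomputable def k36 : ℕ := (nat_lit 0x108000809ef29ef2547394d4a000a000)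
noncomputable def k37 : ℕ := (nat_lit 0x40004040606a0a0b86464a099980e0a)
noncomputable def k38 : ℕ := (nat_lit 0x4478cc20aaf0048c964020880000)
noncomputable def k39 : ℕ := (nat_lit 0x80a0820c04804e8004840ea0084aa8)
noncomputable def k40 : ℕ := (nat_lit 0x40004011504001414541151414000110)
noncomputable def k41 : ℕ := (nat_lit 0xd43749ffda043800d43749ffda04380)
noncomputable def k42 : ℕ := (nat_lit 0x8031a0588031a050428088c0428088c0)
noncomputable def k43 : ℕ := (nat_lit 0xd8c4d8c4afa8afa8d200d20070107010)
noncomputable def k44 : ℕ := (nat_lit 0xe0e02828d1521a020000f0f0cccc5252)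
noncomputable def k45 : ℕ := (nat_lit 0x4488aa66a05288908800f000e044ccc4)
noncomputable def k46 : ℕ := (nat_lit 0x44c000c88c4c4ac480082c000c0ac4a)
noncomputable def k47 : ℕ := (nat_lit 0x50050515014150150014115500541004)
end CfH6.U43A
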