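import Cfsg.Agent.OD.Pre
import Cfsg.Agent.H6.Top2
import Cfsg.Agent.H6.U43A.D0
set_option autoImplicit false
set_option maxRecDepth 100000
set_option Elab.async false
set_option linter.all false
namespace CfH6.U43A
open CfH6 MulAction
noncomputable def n0_0 : Net := mkNet (nat_lit 128) [(nat_lit 64, k0), (nat_lit 32, k1), (nat_lit 16, k2), (nat_lit 8, k3), (nat_lit 4, k4), (nat_lit 2, k5)] [(k6, nat_lit 1)]
noncomputable def n0_1 : Net := mkNet (nat_lit 128) [(nat_lit 64, k7), (nat_lit 32, k8), (nat_lit 16, k9), (nat_lit 8, (nat_lit 0x70704040e0e08d8c0000)), (nat_lit 4, k10), (nat_lit 2, k11)] [(k12, nat_lit 1)]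
noncomputable def n0_2 : Net := mkNet (nat_lit 128) [(nat_lit 64, k13), (nat_lit 32, k14), (nat_lit 16, k15), (nat_lit 8, k16), (nat_lit 4, k17), (nat_lit 2, k18)] [(k19, nat_lit 1)]
noncomputable def n0_3 : Net := mkNet (nat_lit 128) [(nat_lit 64, k20), (nat_lit 32, k21), (nat_lit 16, k22), (nat_lit 8, k23), (nat_lit 4, k24), (nat_lit 2, k25)] [(k26, nat_lit 1)]
noncomputable def n0_4 : Net := mkNet (nat_lit 128) [(nat_lit 64, k27), (nat_lit 32, k28), (nat_lit 16, k29), (nat_lit 8, k30), (nat_lit 4, k31), (nat_lit 2, k32)] [(k33, nat_lit 1)]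
noncomputable def n1_2 : Net := mkNet (nat_lit 128) [(nat_lit 64, k34), (nat_lit 32, k35), (nat_lit 16, k36), (nat_lit 8, k37), (nat_lit 4, k38), (nat_lit 2, k39)] [(k40, nat_lit 1)]
noncomputable def n1_3 : Net := mkNet (nat_lit 128) [(nat_lit 64, k41), (nat_lit 32, k42), (nat_lit 16, k43), (nat_lit 8, k44), (nat_lit 4, k45), (nat_lit 2, k46)] [(k47, nat_lit 1)]
noncomputable def n2_0 : Net := mkNet (nat_lit 12) [(nat_lit 6, (nat_lit 0x828)), (nat_lit 3, (nat_lit 0xa20))] [((nat_lit 0x90), nat_lit 1)]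
noncomputable def n2_1 : Net := mkNet (nat_lit 12) [(nat_lit 6, (nat_lit 0xf3c)), (nat_lit 3, (nat_lit 0xe24))] [((nat_lit 0x240), nat_lit 1), ((nat_lit 0x490), nat_lit 1), ((nat_lit 0x240), nat_lit 1)]
noncomputable def n2_2 : Net := mkNet (nat_lit 12) [(nat_lit 6, (nat_lit 0xe38)), (nat_lit 3, (nat_lit 0xd12))] [((nat_lit 0x208), nat_lit 1), ((nat_lit 0x412), nat_lit 1), ((nat_lit 0x208), nat_lit 1)]
noncomputable def n3_0 : Net := mkNet (nat_lit 12) [(nat_lit 6, (nat_lit 0x10c)), (nat_lit 3, (nat_lit 0x9a4))] [((nat_lit 0x90), nat_lit 1), ((nat_lit 0x48), nat_lit 1)]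
noncomputable def n3_1 : Net := mkNet (nat_lit 12) [(nat_lit 6, (nat_lit 0)), (nat_lit 3, (nat_lit 0x180))] [((nat_lit 0x248), nat_lit 1), ((nat_lit 0x90), nat_lit 1), ((nat_lit 0x40), nat_lit 1)]
noncomputable def n4_0 : Net := mkNet (nat_lit 8) [(nat_lit 4, (nat_lit 0)), (nat_lit 2, (nat_lit 0xc0))] [((nat_lit 0x10), nat_lit 1)]
noncomputable def nets0 : List Net := [n0_0, n0_1, n0_2, n0_3, n0_4]
noncomputable def nets1 : List Net := [n0_1, n0_2, n1_2, n1_3]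
def ws1 : List (List ℕ) := [[1],
  [2],
  [0, 3, 1, 3],
  [3, 2, 4, 3]]
noncomputable def nets2 : List Net := [n2_0, n2_1, n2_2]
def ws2 : List (List ℕ) := [[3, 0, 1, 2, 1, 0],
  [0],
  [2]]
noncomputable def nets3 : List Net := [n3_0, n3_1]
def ws3 : List (List ℕ) := [[0, 2, 0, 1],
  [2, 0, 0, 2]]
noncomputable def nets4 : List Net := [n4_0]
def ws4 : List (List ℕ) := [[1, 0, 1, 1]]
def sig : List (List ℕ) := [[0],
  [1],
  [2],
  [3],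
  [4]]
def eqs0 : List (List ℕ × List ℕ) := [([0, 0], []),
  ([1, 1], []),
  ([2, 2], []),
  ([3, 3], []),
  ([4, 4], []),
  ([0, 1], [1, 0]),
  ([0, 2, 0], [2, 0, 2]),
  ([0, 3], [3, 0]),
  ([0, 4, 0], [4, 0, 4]),
  ([1, 2, 1], [2, 1, 2]),
  ([1, 3, 1, 3], [3, 1, 3, 1]),
  ([1, 4, 1, 4], [4, 1, 4, 1]),
  ([2, 3, 2], [3, 2, 3]),
  ([2, 4], [4, 2]),
  ([3, 4, 3], [4, 3, 4]),
  ([1, 2, 3, 1, 2, 3, 1, 2], [3, 2, 1, 3, 2, 1, 3]),
  ([0, 1, 2, 3, 2, 0, 1, 2, 3, 2, 0, 1, 2], [2, 3, 2, 0, 1, 2, 3, 2, 0, 1, 2, 3]),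
  ([0, 1, 2, 0, 1, 3, 1, 2, 0, 1, 3, 1, 2], [3, 1, 2, 0, 1, 3, 1, 2, 0, 1, 3, 1]),
  ([0, 1, 2, 0, 3, 1, 3, 2, 4, 0, 1, 3], [3, 1, 3, 2, 4, 0, 3, 1, 2, 3, 2, 1]),
  ([1, 3, 4, 1, 3], [4, 3, 1, 4])]
def eqs : List (List ℕ × List ℕ) := eqs0
def lU : List (ℕ × ℕ) := [(0, 112)]
noncomputable def U : ℕ := ivls lU
def l1 : List (ℕ × ℕ) := [(1, 1), (12, 80)]
noncomputable def S1 : ℕ := ivls l1
def w1 : List ℕ := [0]
def l2 : List (ℕ × ℕ) := [(2, 10), (92, 20)]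
noncomputable def S2 : ℕ := ivls l2
def w2 : List ℕ := [0, 4, 3, 2, 0]
noncomputable def J : List (List ℕ × ℕ × ℕ) := [(w1, 1, S1), (w2, 92, S2)]
def lBig : List (ℕ × ℕ) := [(1, 1), (12, 80)]
noncomputable def J2 : List (List ℕ × ℕ × ℕ) := [([4, 3, 0, 0], 1, S1)]
noncomputable def J1 : List (List ℕ × ℕ × ℕ) := [([0], 1, S1)]
def ex : List (List ℕ) := [[0, 2, 3, 1]]
def bs' : List ℕ := [0, 1, 2, 3, 4]
end CfH6.U43A
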